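import Mathlib

/-! Generic smoothness on the source in characteristic zero. -/

set_option autoImplicit false

universe u

open CategoryTheory AlgebraicGeometry

namespace Groth.Agent.W7GenSmooth

/-- The structure map `k → Γ(Y, V)`. -/
noncomputable def structHom {k : Type u} [Field k] {Y : Scheme.{u}}
    (q : Y ⟶ Spec (CommRingCat.of k)) (V : Y.Opens) : k →+* Γ(Y, V) :=
  ((Scheme.ΓSpecIso (CommRingCat.of k)).inv ≫ q.appLE ⊤ V le_top).hom

theorem charZero_stalk {k : Type u} [Field k] [CharZero k] {Y : Scheme.{u}}
    (q : Y ⟶ Spec (CommRingCat.of k)) (y : Y) : CharZero (Y.presheaf.stalk y) :=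
  charZero_of_injective_ringHom
    ((Y.presheaf.germ ⊤ y trivial).hom.comp (structHom q ⊤)).injective

theorem charZero_sections {k : Type u} [Field k] [CharZero k] {Y : Scheme.{u}}
    (q : Y ⟶ Spec (CommRingCat.of k)) (V : Y.Opens) [Nontrivial Γ(Y, V)] : CharZero Γ(Y, V) :=
  charZero_of_injective_ringHom (structHom q V).injective

theorem map_genericPoint {X Y : Scheme.{u}} [AlgebraicGeometry.IsIntegral X]
    [AlgebraicGeometry.IsIntegral Y] (f : X ⟶ Y) (hdom : DenseRange f.base) :
    f.base (genericPoint X) = genericPoint Y := by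
  have h := (genericPoint_spec X).image f.continuous
  rw [Set.image_univ, hdom.closure_range] at h
  exact h.eq (genericPoint_spec Y)

/-- The smooth locus of a dominant morphism of integral schemes contains the generic point as soon
as the function field below has characteristic zero. -/
theorem genericPoint_mem_smoothLocus {X Y : Scheme.{u}} [AlgebraicGeometry.IsIntegral X]
    [AlgebraicGeometry.IsIntegral Y] (f : X ⟶ Y) [LocallyOfFinitePresentation f]
    (hdom : f.base (genericPoint X) = genericPoint Y) [CharZero Y.functionField] :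
    genericPoint X ∈ f.smoothLocus := by
  have h := LocallyOfFiniteType.stalkMap f (genericPoint X)
  rw [Scheme.Hom.mem_smoothLocus]
  algebraize [(f.stalkMap (genericPoint X)).hom]
  have key : ∀ (y : Y), y = genericPoint Y →
      IsField (Y.presheaf.stalk y) ∧ CharZero (Y.presheaf.stalk y) := by
    rintro y rfl
    exact ⟨Field.toIsField Y.functionField, inferInstanceAs (CharZero Y.functionField)⟩
  obtain ⟨hF, hC⟩ := key _ hdom
  letI : Field (Y.presheaf.stalk (f (genericPoint X))) := hF.toField
  haveI : CharZero (Y.presheaf.stalk (f (genericPoint X))) := hC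
  letI : Field (X.presheaf.stalk (genericPoint X)) := inferInstanceAs (Field X.functionField)
  exact Algebra.FormallySmooth.of_perfectField

theorem smooth_smoothLocus {X Y : Scheme.{u}} (f : X ⟶ Y) [LocallyOfFinitePresentation f] :
    Smooth (f.smoothLocus.ι ≫ f) := by
  rw [← Scheme.Hom.smoothLocus_eq_top_iff, ← Scheme.Hom.preimage_smoothLocus_eq, eq_top_iff]
  exact fun x _ => x.2

end Groth.Agent.W7GenSmooth
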