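import Groth.Agent.W7GenSmooth.Basic
import Groth.Agent.CartierEq.Basic

/-! Smoothness of given relative dimension near a generic point. -/

set_option autoImplicit false
set_option linter.style.haveILetI false

universe u

open CategoryTheory AlgebraicGeometry

namespace Groth.Agent.W7GenSmooth


theorem standardSmoothOfRelDim {R C : Type u} [CommRing R] [CommRing C] [IsDomain C] [Algebra R C]
    [Algebra.IsStandardSmooth R C] (K L : Type u) [Field K] [Field L]
    [Algebra R K] [Algebra.FormallyEtale R K] [Algebra C L] [IsFractionRing C L] [Algebra R L]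
    [Algebra K L] [IsScalarTower R C L] [IsScalarTower R K L] [Algebra.FormallySmooth K L] (n : ℕ)
    (hn : Algebra.trdeg K L = n) : Algebra.IsStandardSmoothOfRelativeDimension n R C := by
  haveI : Algebra.EssFiniteType C L := Algebra.EssFiniteType.of_isLocalization L (nonZeroDivisors C)
  haveI : Algebra.FiniteType R C := inferInstance
  haveI : Algebra.EssFiniteType R L := Algebra.EssFiniteType.comp R C L
  haveI : Algebra.EssFiniteType K L := Algebra.EssFiniteType.of_comp R K L
  haveI : Algebra.FormallyEtale C L := Algebra.FormallyEtale.of_isLocalization (nonZeroDivisors C)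
  obtain ⟨hfin, -, hcart⟩ := Groth.Agent.CartierEq.cartier_equality K L
  haveI : Subsingleton (Algebra.H1Cotangent K L) := Algebra.FormallySmooth.subsingleton_h1Cotangent
  rw [Module.finrank_zero_of_subsingleton (M := Algebra.H1Cotangent K L), add_zero, hn,
    Cardinal.toNat_natCast] at hcart
  have hbij : Function.Bijective (KaehlerDifferential.map R K L L) := by
    refine ⟨?_, KaehlerDifferential.map_surjective R K L⟩
    rw [injective_iff_map_eq_zero]
    intro x hx
    obtain ⟨y, rfl⟩ := (KaehlerDifferential.exact_mapBaseChange_map R K L x).1 hx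
    haveI : Subsingleton (Ω[K⁄R]) := Algebra.FormallyUnramified.subsingleton_kaehlerDifferential
    rw [Subsingleton.elim y 0, map_zero]
  have h1 : Module.finrank L (Ω[L⁄R]) = n :=
    (LinearEquiv.ofBijective (KaehlerDifferential.map R K L L) hbij).finrank_eq.trans hcart
  have h2 : Module.finrank C (Ω[C⁄R]) = n := by
    rw [← Module.finrank_baseChange (R := L), ← h1]
    exact (KaehlerDifferential.tensorKaehlerEquivOfFormallyEtale R C L).finrank_eq
  rw [Algebra.IsStandardSmoothOfRelativeDimension.iff_of_isStandardSmooth,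
    ← Module.finrank_eq_rank, h2]

theorem exists_open_relDim {X Y : Scheme.{u}} [AlgebraicGeometry.IsIntegral X]
    [AlgebraicGeometry.IsIntegral Y] (π : X ⟶ Y) [LocallyOfFinitePresentation π]
    (hdom : π.base (genericPoint X) = genericPoint Y)
    (hfs : (π.stalkMap (genericPoint X)).hom.FormallySmooth) (n : ℕ)
    (hn : @Algebra.trdeg (Y.presheaf.stalk (π.base (genericPoint X))) X.functionField _ _
      (π.stalkMap (genericPoint X)).hom.toAlgebra = n) :
    ∃ U : X.Opens, (U : Set X).Nonempty ∧ SmoothOfRelativeDimension n (U.ι ≫ π) := by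
  obtain ⟨U, hU, V, hV, hVU, hxV, H⟩ := exists_smooth_of_formallySmooth_stalk π (genericPoint X)
    hfs
  algebraize [(π.appLE U V hVU).hom]
  obtain ⟨g, hg, hstd⟩ := Algebra.IsSmoothAt.exists_notMem_isStandardSmooth Γ(Y, U)
    (hV.primeIdealOf ⟨genericPoint X, hxV⟩).asIdeal
  let W := X.basicOpen g
  have hWV : W ≤ V := X.basicOpen_le g
  have hxW : genericPoint X ∈ W := by
    letI := TopCat.Presheaf.algebra_section_stalk X.presheaf (⟨genericPoint X, hxV⟩ : V)
    haveI := hV.isLocalization_stalk ⟨genericPoint X, hxV⟩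
    rw [X.mem_basicOpen g (genericPoint X) hxV]
    exact (IsLocalization.AtPrime.isUnit_to_map_iff (X.presheaf.stalk (genericPoint X))
      (hV.primeIdealOf ⟨genericPoint X, hxV⟩).asIdeal g).2 hg
  haveI : Nonempty W := ⟨⟨genericPoint X, hxW⟩⟩
  have hW : IsAffineOpen W := hV.basicOpen g
  have hWU : W ≤ π ⁻¹ᵁ U := hWV.trans hVU
  haveI := hV.isLocalization_basicOpen g
  letI : Algebra Γ(Y, U) Γ(X, W) := (π.appLE U W hWU).hom.toAlgebra
  haveI : IsScalarTower Γ(Y, U) Γ(X, V) Γ(X, W) := IsScalarTower.of_algebraMap_eq' (by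
    show (π.appLE U W hWU).hom = (X.presheaf.map (homOfLE hWV).op).hom.comp (π.appLE U V hVU).hom
    rw [← CommRingCat.hom_comp, Scheme.Hom.appLE_map])
  haveI := hstd
  haveI : Algebra.IsStandardSmooth Γ(Y, U) Γ(X, W) :=
    Algebra.IsStandardSmooth.of_algEquiv
      ((IsLocalization.algEquiv (Submonoid.powers g) (Localization.Away g) Γ(X, W)).restrictScalars
        Γ(Y, U))
  letI : Algebra (Y.presheaf.stalk (π.base (genericPoint X))) X.functionField :=
    (π.stalkMap (genericPoint X)).hom.toAlgebra
  have hmem : π.base (genericPoint X) ∈ U := hWU hxW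
  letI : Algebra Γ(Y, U) (Y.presheaf.stalk (π.base (genericPoint X))) :=
    TopCat.Presheaf.algebra_section_stalk Y.presheaf (⟨π.base (genericPoint X), hmem⟩ : U)
  haveI : IsLocalization.AtPrime (Y.presheaf.stalk (π.base (genericPoint X)))
      (hU.primeIdealOf ⟨π.base (genericPoint X), hmem⟩).asIdeal :=
    hU.isLocalization_stalk ⟨π.base (genericPoint X), hmem⟩
  haveI : Algebra.FormallyEtale Γ(Y, U) (Y.presheaf.stalk (π.base (genericPoint X))) :=
    Algebra.FormallyEtale.of_isLocalization
      (hU.primeIdealOf ⟨π.base (genericPoint X), hmem⟩).asIdeal.primeCompl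
  haveI : IsFractionRing Γ(X, W) X.functionField :=
    functionField_isFractionRing_of_isAffineOpen X W hW
  letI : Algebra Γ(Y, U) X.functionField :=
    ((algebraMap Γ(X, W) X.functionField).comp (algebraMap Γ(Y, U) Γ(X, W))).toAlgebra
  haveI : IsScalarTower Γ(Y, U) Γ(X, W) X.functionField := IsScalarTower.of_algebraMap_eq' rfl
  haveI : IsScalarTower Γ(Y, U) (Y.presheaf.stalk (π.base (genericPoint X))) X.functionField :=
    IsScalarTower.of_algebraMap_eq' (by
      show (X.presheaf.germ W (genericPoint X) hxW).hom.comp (π.appLE U W hWU).hom =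
        (π.stalkMap (genericPoint X)).hom.comp (Y.presheaf.germ U _ hmem).hom
      rw [← CommRingCat.hom_comp, ← CommRingCat.hom_comp, Scheme.Hom.germ_stalkMap,
        Scheme.Hom.appLE, Category.assoc, X.presheaf.germ_res])
  have key : ∀ (y : Y), y = genericPoint Y →
      IsField (Y.presheaf.stalk y) := by
    rintro y rfl
    exact Field.toIsField Y.functionField
  have hF := key _ hdom
  letI : Field (Y.presheaf.stalk (π.base (genericPoint X))) := hF.toField
  haveI : Algebra.FormallySmooth (Y.presheaf.stalk (π.base (genericPoint X))) X.functionField := hfs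
  haveI hrel : Algebra.IsStandardSmoothOfRelativeDimension n Γ(Y, U) Γ(X, W) :=
    standardSmoothOfRelDim (Y.presheaf.stalk (π.base (genericPoint X))) X.functionField n hn
  refine ⟨W, ⟨_, hxW⟩, ⟨fun x => ?_⟩⟩
  haveI : IsAffine W := hW
  refine ⟨U, hU, ⊤, isAffineOpen_top _, trivial, fun y _ => hWU y.2, ?_⟩
  have e : (W.ι ≫ π).appLE U ⊤ (fun y _ => hWU y.2) = π.appLE U W hWU ≫ W.topIso.inv := by
    rw [Scheme.Hom.comp_appLE, Scheme.Opens.ι_appLE]
    simp [Scheme.Opens.topIso, Scheme.Hom.appLE, ← Functor.map_comp]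
    congr 1
    erw [← Functor.map_comp]
    rfl
  rw [e, CommRingCat.hom_comp]
  exact RingHom.isStandardSmoothOfRelativeDimension_respectsIso.1 _
    W.topIso.symm.commRingCatIsoToRingEquiv hrel


theorem exists_open_relDim_charZero {X Y : Scheme.{u}} [AlgebraicGeometry.IsIntegral X]
    [AlgebraicGeometry.IsIntegral Y] (π : X ⟶ Y) [LocallyOfFinitePresentation π]
    (hdom : π.base (genericPoint X) = genericPoint Y) [CharZero Y.functionField] (n : ℕ)
    (hn : @Algebra.trdeg (Y.presheaf.stalk (π.base (genericPoint X))) X.functionField _ _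
      (π.stalkMap (genericPoint X)).hom.toAlgebra = n) :
    ∃ U : X.Opens, (U : Set X).Nonempty ∧ SmoothOfRelativeDimension n (U.ι ≫ π) :=
  exists_open_relDim π hdom
    (Scheme.Hom.mem_smoothLocus.1 (genericPoint_mem_smoothLocus π hdom)) n hn

end Groth.Agent.W7GenSmooth
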